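import Cfsg.Agent.PlaneModel.Basic
import Cfsg.Prelude.Def_Sporadic_a

/-! Uniqueness of the plane of order four and the action on a hyperoval. -/

set_option autoImplicit false

namespace Cfsg.Agent.PlaneModel

open Cfsg Cfsg.Agent.OddChar
open scoped Pointwise

theorem iso_of_labels {α β : Type*} [DecidableEq α] [DecidableEq β] (Φ : Fin 6 ⊕ Fin 15 ≃ α)
    (Ψ : Fin 6 ⊕ Fin 15 ≃ β) {L : Set (Finset α)} {L' : Set (Finset β)}
    (h : (fun l => l.image Φ) '' modelLines = L) (h' : (fun l => l.image Ψ) '' modelLines = L') :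
    (fun b => b.image (Φ.symm.trans Ψ)) '' L = L' := by
  rw [← h, ← h', Set.image_image]
  refine Set.image_congr fun l _ => ?_
  rw [Finset.image_image]
  congr 1
  funext x
  simp

variable {α : Type*} [Fintype α] [DecidableEq α]

theorem exists_plane {L : Set (Finset α)} (hα : Fintype.card α = 21) (hL : IsSteinerSystem 2 5 L) :
    ∃ Lf : Finset (Finset α), L = ↑Lf ∧ IsPlaneFour Lf := by
  classical
  exact ⟨L.toFinset, (Set.coe_toFinset L).symm, hα,
    fun l hl => hL.1 l (Set.mem_toFinset.1 hl), fun s hs => by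
      obtain ⟨b, hb, hu⟩ := hL.2 s hs
      exact ⟨b, ⟨Set.mem_toFinset.2 hb.1, hb.2⟩, fun c hc => hu c ⟨Set.mem_toFinset.1 hc.1, hc.2⟩⟩⟩

theorem plane_unique {β : Type*} [Fintype β] [DecidableEq β] (hα : Fintype.card α = 21)
    (hβ : Fintype.card β = 21) {L : Set (Finset α)} {L' : Set (Finset β)} (hL : IsSteinerSystem 2 5 L)
    (hL' : IsSteinerSystem 2 5 L') : SetSystemIso L L' := by
  classical
  obtain ⟨Lf, rfl, hP⟩ := exists_plane hα hL
  obtain ⟨Lg, rfl, hQ⟩ := exists_plane hβ hL'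
  have hex : ∀ {γ : Type _} [Fintype γ] [DecidableEq γ] {K : Finset (Finset γ)},
      IsPlaneFour K → ∃ H : Finset γ, H.card = 6 ∧ PIndep K H := by
    intro γ _ _ K hK
    obtain ⟨H, hH⟩ := Finset.card_pos.1
      (show 0 < (Finset.univ.filter fun S : Finset γ => S.card = 6 ∧ PIndep K S).card by
        rw [(indep_counts hK).2]; norm_num)
    exact ⟨H, (Finset.mem_filter.1 hH).2⟩
  have hexa : ∀ {K : Finset (Finset α)}, IsPlaneFour K → ∃ H : Finset α, H.card = 6 ∧ PIndep K H := by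
    intro K hK
    obtain ⟨H, hH⟩ := Finset.card_pos.1
      (show 0 < (Finset.univ.filter fun S : Finset α => S.card = 6 ∧ PIndep K S).card by
        rw [(indep_counts hK).2]; norm_num)
    exact ⟨H, (Finset.mem_filter.1 hH).2⟩
  obtain ⟨H, hH, hi⟩ := hexa hP
  obtain ⟨H', hH', hi'⟩ := hex hQ
  obtain ⟨Φ, -, hΦ⟩ := exists_label hP hH hi (H.equivFinOfCardEq hH).symm
  obtain ⟨Ψ, -, hΨ⟩ := exists_label hQ hH' hi' (H'.equivFinOfCardEq hH').symm
  exact ⟨Φ.symm.trans Ψ, iso_of_labels Φ Ψ hΦ hΨ⟩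

theorem aut_iff {L : Set (Finset α)} {g : Equiv.Perm α} :
    g ∈ setSystemAut L ↔ (fun b => b.image g) '' L = L := Iff.rfl

theorem hyperoval_extends (hα : Fintype.card α = 21) (L : Set (Finset α)) (hL : IsSteinerSystem 2 5 L)
    (H : Finset α) (hH : H.card = 6 ∧ ∀ l ∈ L, (l ∩ H).card ≤ 2) (σ : Equiv.Perm ↥H) :
    ∃! g : Equiv.Perm α, g ∈ setSystemAut L ∧ ∀ p : ↥H, g p = σ p := by
  classical
  obtain ⟨Lf, rfl, hP⟩ := exists_plane hα hL
  obtain ⟨h6, hind⟩ := hH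
  replace hind : PIndep Lf H := hind
  let e : Fin 6 ≃ ↥H := (H.equivFinOfCardEq h6).symm
  obtain ⟨Φ, hΦe, hΦ⟩ := exists_label hP h6 hind e
  obtain ⟨Ψ, hΨe, hΨ⟩ := exists_label hP h6 hind (e.trans σ)
  refine ⟨Φ.symm.trans Ψ, ⟨aut_iff.2 (iso_of_labels Φ Ψ hΦ hΨ), fun p => ?_⟩, fun g hg => ?_⟩
  · obtain ⟨i, rfl⟩ := e.surjective p
    rw [Equiv.trans_apply, ← hΦe, Equiv.symm_apply_apply, hΨe]
    rfl
  set g0 := Φ.symm.trans Ψ with hg0
  have hg0m : g0 ∈ setSystemAut (↑Lf : Set (Finset α)) := aut_iff.2 (iso_of_labels Φ Ψ hΦ hΨ)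
  have hg0p : ∀ p : ↥H, g0 p = σ p := fun p => by
    obtain ⟨i, rfl⟩ := e.surjective p
    rw [hg0, Equiv.trans_apply, ← hΦe, Equiv.symm_apply_apply, hΨe]
    rfl
  set h := g0⁻¹ * g with hh
  have hm : h ∈ setSystemAut (↑Lf : Set (Finset α)) := mul_mem (inv_mem hg0m) hg.1
  have hfix : ∀ p : ↥H, h p = p := fun p => by
    rw [hh, Equiv.Perm.mul_apply, hg.2, ← hg0p, Equiv.Perm.coe_inv, Equiv.symm_apply_apply]
  suffices h = 1 from (inv_mul_eq_one.1 this).symm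
  have hline : ∀ l ∈ Lf, l.image h ∈ Lf := fun l hl => by
    have := (aut_iff.1 hm).subset ⟨l, hl, rfl⟩
    exact this
  refine Equiv.ext fun p => ?_
  by_cases hp : p ∈ H
  · exact hfix ⟨p, hp⟩
  rw [Equiv.Perm.one_apply]
  by_contra hne
  have hsame : ∀ a ∈ H, ∀ l ∈ Lf, a ∈ l → p ∈ l → h p ∈ l := by
    intro a ha l hl hal hpl
    obtain ⟨b, hb, hbl, hbH⟩ := line_two hP h6 hind hl hal ha
    have := line_eq hP (hline l hl) hl hb.symm
      (Finset.mem_image.2 ⟨a, hal, hfix ⟨a, ha⟩⟩) (Finset.mem_image.2 ⟨b, hbl, hfix ⟨b, hbH⟩⟩) hal hbl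
    rw [← this]
    exact Finset.mem_image_of_mem _ hpl
  obtain ⟨a, ha⟩ := Finset.card_pos.1 (by rw [h6]; norm_num : 0 < H.card)
  obtain ⟨l, ⟨hl, hsub⟩, -⟩ := hP.uniq {p, a} (Finset.card_pair fun x => hp (by rw [x]; exact ha))
  simp only [Finset.insert_subset_iff, Finset.singleton_subset_iff] at hsub
  obtain ⟨c, hc, hcl⟩ : ∃ c ∈ H, c ∉ l := by
    by_contra hc
    push Not at hc
    have : H ⊆ l ∩ H := fun x hx => Finset.mem_inter.2 ⟨hc x hx, hx⟩
    have := Finset.card_le_card this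
    have := hind l hl
    omega
  obtain ⟨m, ⟨hm', hsub'⟩, -⟩ := hP.uniq {p, c} (Finset.card_pair fun x => hp (by rw [x]; exact hc))
  simp only [Finset.insert_subset_iff, Finset.singleton_subset_iff] at hsub'
  have := line_eq hP hl hm' (Ne.symm hne) hsub.1 (hsame a ha l hl hsub.2 hsub.1) hsub'.1
    (hsame c hc m hm' hsub'.2 hsub'.1)
  exact hcl (this ▸ hsub'.2)

end Cfsg.Agent.PlaneModel
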