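import Cfsg.Agent.OddChar.PlaneFour

/-! A plane of order four is rebuilt from any of its hyperovals. -/

set_option autoImplicit false

namespace Cfsg.Agent.PlaneModel

open Cfsg.Agent.OddChar

/-- The fifteen ways of splitting six symbols into pairs. -/
def syn : Fin 15 → Fin 6 → Fin 6 :=
  ![![1,0,3,2,5,4], ![1,0,4,5,2,3], ![1,0,5,4,3,2], ![2,3,0,1,5,4], ![2,4,0,5,1,3], ![2,5,0,4,3,1],
    ![3,2,1,0,5,4], ![3,4,5,0,1,2], ![3,5,4,0,2,1], ![4,2,1,5,0,3], ![4,3,5,1,0,2], ![4,5,3,2,0,1],
    ![5,2,1,4,3,0], ![5,3,4,1,2,0], ![5,4,3,2,1,0]]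

/-- Two splittings share no pair. -/
def Apart (k k' : Fin 15) : Prop := ∀ i, syn k i ≠ syn k' i

instance (k k' : Fin 15) : Decidable (Apart k k') := inferInstanceAs (Decidable (∀ _, _))

theorem syn_cover : ∀ σ : Equiv.Perm (Fin 6), (∀ i, σ i ≠ i ∧ σ (σ i) = i) → ∃ k, ∀ i, syn k i = σ i := by
  decide +kernel

theorem third_count : ∀ p q : Fin 15, Apart p q →
    (Finset.univ.filter fun r => Apart p r ∧ Apart q r ∧
      ∃ s, Apart p s ∧ Apart q s ∧ Apart r s).card = 3 := by
  decide +kernel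

theorem not_apart_self : ∀ k, ¬ Apart k k := fun _ h => h 0 rfl

theorem clique_eq {S T : Finset (Fin 15)} (hS : S.card = 5) (hT : T.card = 5)
    (hS' : ∀ a ∈ S, ∀ b ∈ S, a ≠ b → Apart a b) (hT' : ∀ a ∈ T, ∀ b ∈ T, a ≠ b → Apart a b)
    {p q : Fin 15} (hpq : p ≠ q) (hpS : p ∈ S) (hqS : q ∈ S) (hpT : p ∈ T) (hqT : q ∈ T) : S = T := by
  classical
  set C := Finset.univ.filter fun r => Apart p r ∧ Apart q r ∧ ∃ s, Apart p s ∧ Apart q s ∧ Apart r s
  have key : ∀ U : Finset (Fin 15), U.card = 5 → (∀ a ∈ U, ∀ b ∈ U, a ≠ b → Apart a b) →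
      p ∈ U → q ∈ U → U = insert p (insert q C) := by
    intro U hU hU' hp hq
    have hC : C.card = 3 := third_count p q (hU' p hp q hq hpq)
    have hsub : (U.erase p).erase q ⊆ C := by
      intro r hr
      simp only [Finset.mem_erase] at hr
      obtain ⟨hrq, hrp, hrU⟩ := hr
      obtain ⟨s, hs, hsr⟩ : ∃ s ∈ ((U.erase p).erase q), s ≠ r := by
        refine Finset.exists_mem_ne ?_ r
        rw [Finset.card_erase_of_mem (Finset.mem_erase.2 ⟨Ne.symm hpq, hq⟩), Finset.card_erase_of_mem hp, hU]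
        norm_num
      simp only [Finset.mem_erase] at hs
      refine Finset.mem_filter.2 ⟨Finset.mem_univ _, hU' p hp r hrU (Ne.symm hrp),
        hU' q hq r hrU (Ne.symm hrq), s, hU' p hp s hs.2.2 (Ne.symm hs.2.1),
        hU' q hq s hs.2.2 (Ne.symm hs.1), hU' r hrU s hs.2.2 (Ne.symm hsr)⟩
    have heq : (U.erase p).erase q = C := by
      refine Finset.eq_of_subset_of_card_le hsub ?_
      rw [hC, Finset.card_erase_of_mem (Finset.mem_erase.2 ⟨Ne.symm hpq, hq⟩), Finset.card_erase_of_mem hp, hU]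
    rw [← heq, Finset.insert_erase (Finset.mem_erase.2 ⟨Ne.symm hpq, hq⟩), Finset.insert_erase hp]
  rw [key S hS hS' hpS hqS, key T hT hT' hpT hqT]

/-- The line through a pair of symbols. -/
def secant (i j : Fin 6) : Finset (Fin 6 ⊕ Fin 15) :=
  Finset.univ.filter fun x => x = Sum.inl i ∨ x = Sum.inl j ∨ ∃ k, syn k i = j ∧ x = Sum.inr k

/-- The model lines. -/
def modelLines : Set (Finset (Fin 6 ⊕ Fin 15)) :=
  {l | (∃ i j, i ≠ j ∧ l = secant i j) ∨
    ∃ S : Finset (Fin 15), S.card = 5 ∧ (∀ a ∈ S, ∀ b ∈ S, a ≠ b → Apart a b) ∧ l = S.image Sum.inr}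

variable {α : Type*} [Fintype α] [DecidableEq α] {L : Finset (Finset α)} (hL : IsPlaneFour L)
  {H : Finset α} (hH : H.card = 6) (hind : PIndep L H)

include hL hH hind

theorem line_two {l : Finset α} (hl : l ∈ L) {a : α} (ha : a ∈ l) (haH : a ∈ H) :
    ∃ b, b ≠ a ∧ b ∈ l ∧ b ∈ H := by
  classical
  by_contra hc
  push Not at hc
  have hsum : (H.erase a).card ≤ ((L.filter fun m => a ∈ m).erase l).card := by
    have hex : ∀ b : {b // b ∈ H.erase a}, ∃ m, m ∈ (L.filter fun m => a ∈ m).erase l ∧ b.1 ∈ m := by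
      rintro ⟨b, hb⟩
      simp only [Finset.mem_erase] at hb
      obtain ⟨m, ⟨hm, hsub⟩, -⟩ := hL.uniq {a, b} (Finset.card_pair (Ne.symm hb.1))
      simp only [Finset.insert_subset_iff, Finset.singleton_subset_iff] at hsub
      refine ⟨m, Finset.mem_erase.2 ⟨fun e => hc b hb.1 (e ▸ hsub.2) hb.2, Finset.mem_filter.2 ⟨hm, hsub.1⟩⟩, hsub.2⟩
    choose f hf hfb using hex
    rw [← Fintype.card_coe, ← Fintype.card_coe]
    refine Fintype.card_le_of_injective (fun b => ⟨f b, hf b⟩) fun b c e => ?_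
    by_contra hne
    have hm := (Finset.mem_filter.1 (Finset.mem_erase.1 (hf b)).2)
    have e' : f b = f c := congrArg Subtype.val e
    have h3 := hind _ hm.1
    have : ({a, b.1, c.1} : Finset α) ⊆ f b ∩ H := by
      simp only [Finset.insert_subset_iff, Finset.singleton_subset_iff, Finset.mem_inter]
      exact ⟨⟨hm.2, haH⟩, ⟨hfb b, (Finset.mem_erase.1 b.2).2⟩, ⟨e' ▸ hfb c, (Finset.mem_erase.1 c.2).2⟩⟩
    have h4 := Finset.card_le_card this
    rw [Finset.card_insert_of_notMem (by
        simp only [Finset.mem_insert, Finset.mem_singleton, not_or]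
        exact ⟨Ne.symm (Finset.mem_erase.1 b.2).1, Ne.symm (Finset.mem_erase.1 c.2).1⟩),
      Finset.card_pair (fun x => hne (Subtype.ext x))] at h4
    omega
  rw [Finset.card_erase_of_mem haH, hH, Finset.card_erase_of_mem (Finset.mem_filter.2 ⟨hl, ha⟩),
    pencil_card hL] at hsum
  omega

theorem pair_unique {l : Finset α} (hl : l ∈ L) {a b c : α} (ha : a ∈ l) (haH : a ∈ H) (hb : b ∈ l)
    (hbH : b ∈ H) (hba : b ≠ a) (hc : c ∈ l) (hcH : c ∈ H) (hca : c ≠ a) : b = c := by
  classical
  by_contra hne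
  have : ({a, b, c} : Finset α) ⊆ l ∩ H := by
    simp [Finset.insert_subset_iff, ha, haH, hb, hbH, hc, hcH]
  have h4 := Finset.card_le_card this
  rw [Finset.card_insert_of_notMem (by simp [Ne.symm hba, Ne.symm hca]), Finset.card_pair hne] at h4
  have := hind l hl
  omega

theorem exists_mate (p : α) (hp : p ∉ H) (a : α) (ha : a ∈ H) :
    ∃ b ∈ H, b ≠ a ∧ ∃ l ∈ L, p ∈ l ∧ a ∈ l ∧ b ∈ l := by
  obtain ⟨l, ⟨hl, hsub⟩, -⟩ := hL.uniq {p, a} (Finset.card_pair fun e => hp (by rw [e]; exact ha))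
  simp only [Finset.insert_subset_iff, Finset.singleton_subset_iff] at hsub
  obtain ⟨b, hba, hbl, hbH⟩ := line_two hL hH hind hl hsub.2 ha
  exact ⟨b, hbH, hba, l, hl, hsub.1, hsub.2, hbl⟩

/-- A labelling of the plane by the model extending a labelling of the hyperoval. -/
theorem exists_label (e : Fin 6 ≃ ↥H) :
    ∃ Φ : Fin 6 ⊕ Fin 15 ≃ α, (∀ i, Φ (Sum.inl i) = (e i : α)) ∧
      (fun l => l.image Φ) '' modelLines = (L : Set (Finset α)) := by
  classical
  choose mate hmH hmne line hline hpl hal hbl using fun (p : {p // p ∉ H}) (a : ↥H) =>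
    exists_mate hL hH hind p.1 p.2 a.1 a.2
  let σ : {p // p ∉ H} → Fin 6 → Fin 6 := fun p i => e.symm ⟨mate p (e i), hmH p (e i)⟩
  have hσval : ∀ p i, (e (σ p i) : α) = mate p (e i) := fun p i => by
    simp only [σ, Equiv.apply_symm_apply]
  have huniq : ∀ p (i : Fin 6) (b : α), b ∈ H → b ≠ (e i : α) →
      (∃ l ∈ L, p.1 ∈ l ∧ (e i : α) ∈ l ∧ b ∈ l) → b = mate p (e i) := by
    rintro p i b hb hne ⟨l, hl, h1, h2, h3⟩
    have := line_eq hL hl (hline p (e i)) (fun x => p.2 (by rw [x]; exact (e i).2)) h1 h2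
      (hpl p (e i)) (hal p (e i))
    subst this
    exact pair_unique hL hH hind hl h2 (e i).2 h3 hb hne (hbl p (e i)) (hmH p (e i)) (hmne p (e i))
  have hσne : ∀ p i, σ p i ≠ i := fun p i h => hmne p (e i) (by
    have := hσval p i
    rw [h] at this
    exact this.symm)
  have hσσ : ∀ p i, σ p (σ p i) = i := fun p i => by
    apply e.injective
    apply Subtype.ext
    rw [hσval]
    refine (huniq p (σ p i) (e i : α) (e i).2 (by rw [hσval]; exact Ne.symm (hmne p (e i))) ?_).symm
    exact ⟨_, hline p (e i), hpl p (e i), by rw [hσval]; exact hbl p (e i), hal p (e i)⟩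
  have hcode : ∀ p, ∃ k, ∀ i, syn k i = σ p i := fun p =>
    syn_cover ⟨σ p, σ p, hσσ p, hσσ p⟩ fun i => ⟨hσne p i, hσσ p i⟩
  choose code hcode using hcode
  have hinj : Function.Injective code := by
    intro p q h
    by_contra hne
    have hsame : ∀ i, mate p (e i) = mate q (e i) := fun i => by
      rw [← hσval, ← hσval, ← hcode, ← hcode, h]
    have hlines : ∀ i, line p (e i) = line q (e i) := fun i =>
      line_eq hL (hline p (e i)) (hline q (e i)) (hmne p (e i)).symm (hal p (e i)) (hbl p (e i))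
        (hal q (e i)) (by rw [hsame]; exact hbl q (e i))
    obtain ⟨j, hj0, hj⟩ : ∃ j : Fin 6, j ≠ 0 ∧ j ≠ σ p 0 :=
      (by decide : ∀ s : Fin 6, ∃ j : Fin 6, j ≠ 0 ∧ j ≠ s) _
    have h0 : line p (e 0) = line p (e j) := line_eq hL (hline p (e 0)) (hline p (e j))
      (fun x => hne (Subtype.ext x)) (hpl p (e 0)) (by rw [hlines]; exact hpl q (e 0)) (hpl p (e j))
      (by rw [hlines]; exact hpl q (e j))
    have hjl : (e j : α) ∈ line p (e 0) := h0 ▸ hal p (e j)
    have := huniq p 0 (e j : α) (e j).2 (fun x => hj0 (e.injective (Subtype.ext x)))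
      ⟨_, hline p (e 0), hpl p (e 0), hal p (e 0), hjl⟩
    rw [← hσval] at this
    exact hj (e.injective (Subtype.ext this))
  have hcard : Fintype.card {p // p ∉ H} = Fintype.card (Fin 15) := by
    rw [Fintype.card_subtype_compl, hL.pts, Fintype.card_coe, hH, Fintype.card_fin]
  let ψ : {p // p ∉ H} ≃ Fin 15 :=
    Equiv.ofBijective code ((Fintype.bijective_iff_injective_and_card code).2 ⟨hinj, hcard⟩)
  let Φ : Fin 6 ⊕ Fin 15 ≃ α :=
    (Equiv.sumCongr e ψ.symm).trans (Equiv.sumCompl fun p => p ∈ H)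
  have hΦl : ∀ i, Φ (Sum.inl i) = (e i : α) := fun i => rfl
  have hΦr : ∀ k, Φ (Sum.inr k) = ((ψ.symm k : {p // p ∉ H}) : α) := fun k => rfl
  have hΦs : ∀ k, ∀ i, syn k i = σ (ψ.symm k) i := fun k i => by
    rw [← hcode]
    exact congrArg (fun t => syn t i) (ψ.apply_symm_apply k).symm
  -- secants
  have hsec : ∀ i j, i ≠ j → ∀ l ∈ L, (e i : α) ∈ l → (e j : α) ∈ l →
      (secant i j).image Φ = l := by
    intro i j hij l hl hi hj
    ext x
    obtain ⟨y, rfl⟩ := Φ.surjective x
    rw [Φ.injective.mem_finset_image]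
    simp only [secant, Finset.mem_filter, Finset.mem_univ, true_and]
    rcases y with m | k
    · simp only [Sum.inl.injEq, reduceCtorEq, and_false, exists_false, or_false, hΦl]
      constructor
      · rintro (rfl | rfl) <;> assumption
      · intro hm
        by_cases hmi : m = i
        · exact Or.inl hmi
        · refine Or.inr (e.injective (Subtype.ext ?_))
          exact pair_unique hL hH hind hl hi (e i).2 hm (e m).2
            (fun x => hmi (e.injective (Subtype.ext x))) hj (e j).2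
            (fun x => hij (e.injective (Subtype.ext x)).symm)
    · simp only [reduceCtorEq, false_or, Sum.inr.injEq, exists_eq_right', hΦr]
      constructor
      · intro h
        rw [hΦs] at h
        have h' : mate (ψ.symm k) (e i) = (e j : α) := by rw [← hσval, h]
        have := line_eq hL (hline (ψ.symm k) (e i)) hl (fun x => hij (e.injective (Subtype.ext x)))
          (hal _ _) (h' ▸ hbl _ _) hi hj
        exact this ▸ hpl (ψ.symm k) (e i)
      · intro h
        have := huniq (ψ.symm k) i (e j : α) (e j).2 (fun x => hij (e.injective (Subtype.ext x)).symm)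
          ⟨l, hl, h, hi, hj⟩
        rw [← hσval, ← hΦs] at this
        exact (e.injective (Subtype.ext this)).symm
  -- external lines
  have hext : ∀ l ∈ L, (∀ i, (e i : α) ∉ l) → ∃ S : Finset (Fin 15), S.card = 5 ∧
      (∀ a ∈ S, ∀ b ∈ S, a ≠ b → Apart a b) ∧ S.image (fun k => Φ (Sum.inr k)) = l := by
    intro l hl hout
    refine ⟨Finset.univ.filter fun k => Φ (Sum.inr k) ∈ l, ?_, ?_, ?_⟩
    pick_goal 3
    · ext x
      simp only [Finset.mem_image, Finset.mem_filter, Finset.mem_univ, true_and]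
      constructor
      · rintro ⟨k, hk, rfl⟩; exact hk
      · intro hx
        obtain ⟨y, rfl⟩ := Φ.surjective x
        rcases y with m | k
        · exact absurd hx (hout m)
        · exact ⟨k, hx, rfl⟩
    · have himg : (Finset.univ.filter fun k => Φ (Sum.inr k) ∈ l).image (fun k => Φ (Sum.inr k)) = l := by
        ext x
        simp only [Finset.mem_image, Finset.mem_filter, Finset.mem_univ, true_and]
        constructor
        · rintro ⟨k, hk, rfl⟩; exact hk
        · intro hx
          obtain ⟨y, rfl⟩ := Φ.surjective x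
          rcases y with m | k
          · exact absurd hx (hout m)
          · exact ⟨k, hx, rfl⟩
      have := congrArg Finset.card himg
      rw [Finset.card_image_of_injective _ (fun x y h => Sum.inr_injective (Φ.injective h)), hL.five l hl] at this
      exact this
    · intro a ha b hb hab i hi
      simp only [Finset.mem_filter, Finset.mem_univ, true_and, hΦr] at ha hb
      rw [hΦs, hΦs] at hi
      have hm : mate (ψ.symm a) (e i) = mate (ψ.symm b) (e i) := by rw [← hσval, ← hσval, hi]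
      have h1 := line_eq hL (hline (ψ.symm a) (e i)) (hline (ψ.symm b) (e i)) (hmne _ _).symm (hal _ _)
        (hbl _ _) (hal _ _) (hm ▸ hbl _ _)
      have h2 := line_eq hL hl (hline (ψ.symm a) (e i))
        (fun x => hab (ψ.symm.injective (Subtype.ext x))) ha hb (hpl _ _) (h1 ▸ hpl (ψ.symm b) (e i))
      exact hout i (h2 ▸ hal _ _)
  refine ⟨Φ, hΦl, ?_⟩
  ext l
  constructor
  · rintro ⟨M, (⟨i, j, hij, rfl⟩ | ⟨S, hS, hS', rfl⟩), rfl⟩
    · obtain ⟨m, ⟨hm, hsub⟩, -⟩ := hL.uniq {(e i : α), (e j : α)}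
        (Finset.card_pair fun x => hij (e.injective (Subtype.ext x)))
      simp only [Finset.insert_subset_iff, Finset.singleton_subset_iff] at hsub
      show Finset.image Φ (secant i j) ∈ (L : Set (Finset α))
      rw [hsec i j hij m hm hsub.1 hsub.2]
      exact hm
    · obtain ⟨p, hp, q, hq, hpq⟩ := Finset.one_lt_card.1 (by omega : 1 < S.card)
      obtain ⟨m, ⟨hm, hsub⟩, -⟩ := hL.uniq {Φ (Sum.inr p), Φ (Sum.inr q)}
        (Finset.card_pair fun x => hpq (Sum.inr_injective (Φ.injective x)))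
      simp only [Finset.insert_subset_iff, Finset.singleton_subset_iff] at hsub
      have hout : ∀ i, (e i : α) ∉ m := by
        intro i hi
        obtain ⟨b, hb, hbm, hbH⟩ := line_two hL hH hind hm hi (e i).2
        have hp' := huniq (ψ.symm p) i b hbH hb ⟨m, hm, hsub.1, hi, hbm⟩
        have hq' := huniq (ψ.symm q) i b hbH hb ⟨m, hm, hsub.2, hi, hbm⟩
        refine hS' p hp q hq hpq i ?_
        rw [hΦs, hΦs]
        apply e.injective
        apply Subtype.ext
        rw [hσval, hσval, ← hp', ← hq']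
      obtain ⟨T, hT, hT', hTm⟩ := hext m hm hout
      have mem : ∀ k, Φ (Sum.inr k) ∈ m → k ∈ T := fun k hk => by
        rw [← hTm, Finset.mem_image] at hk
        obtain ⟨k', hk', e'⟩ := hk
        exact Sum.inr_injective (Φ.injective e') ▸ hk'
      have hST := clique_eq hS hT hS' hT' hpq hp hq (mem p hsub.1) (mem q hsub.2)
      show Finset.image Φ (S.image Sum.inr) ∈ (L : Set (Finset α))
      rw [Finset.image_image, hST]
      exact hTm.symm ▸ hm
  · intro hl
    by_cases hout : ∀ i, (e i : α) ∉ l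
    · obtain ⟨S, hS, hS', hSl⟩ := hext l hl hout
      refine ⟨S.image Sum.inr, Or.inr ⟨S, hS, hS', rfl⟩, ?_⟩
      show Finset.image Φ (S.image Sum.inr) = l
      rw [Finset.image_image]; exact hSl
    · push Not at hout
      obtain ⟨i, hi⟩ := hout
      obtain ⟨b, hb, hbm, hbH⟩ := line_two hL hH hind hl hi (e i).2
      have hij : i ≠ e.symm ⟨b, hbH⟩ := fun x => hb (by rw [x, Equiv.apply_symm_apply])
      exact ⟨_, Or.inl ⟨i, _, hij, rfl⟩, hsec i _ hij l hl hi (by rw [Equiv.apply_symm_apply]; exact hbm)⟩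

end Cfsg.Agent.PlaneModel
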